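import Mathlib.Topology.NoetherianSpace
import Mathlib.Topology.Sober
import Mathlib.Topology.Inseparable

set_option autoImplicit false
open TopologicalSpace Topology

namespace Groth.Agent.H5.FtPts

/-- in a Noetherian quasi-sober space, a closed point without proper generizations is open. -/
theorem isOpen_singleton_of_noetherianSpace {α : Type*} [TopologicalSpace α] [NoetherianSpace α]
    [QuasiSober α] (y : α) (hcl : IsClosed ({y} : Set α)) (hgen : ∀ y', y' ⤳ y → y' = y) :
    IsOpen ({y} : Set α) := by
  classical
  have hfin : (irreducibleComponents α).Finite := NoetherianSpace.finite_irreducibleComponents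
  let C : Set α := ⋃ Z ∈ {Z ∈ irreducibleComponents α | y ∉ Z}, Z
  have hC : IsClosed C := by
    refine Set.Finite.isClosed_biUnion (hfin.subset fun Z hZ => hZ.1) fun Z hZ => ?_
    exact isClosed_of_mem_irreducibleComponents Z hZ.1
  have heq : ({y} : Set α) = Cᶜ := by
    ext z
    simp only [Set.mem_singleton_iff, Set.mem_compl_iff]
    constructor
    · rintro rfl hz
      simp only [C, Set.mem_iUnion, Set.mem_setOf_eq] at hz
      obtain ⟨Z, ⟨-, hyZ⟩, hy⟩ := hz
      exact hyZ hy
    · intro hz
      have hZ : irreducibleComponent z ∈ irreducibleComponents α :=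
        irreducibleComponent_mem_irreducibleComponents z
      have hyZ : y ∈ irreducibleComponent z := by
        by_contra hy
        apply hz
        simp only [C, Set.mem_iUnion, Set.mem_setOf_eq]
        exact ⟨irreducibleComponent z, ⟨hZ, hy⟩, mem_irreducibleComponent⟩
      obtain ⟨η, hη⟩ := QuasiSober.sober (isIrreducible_irreducibleComponent (x := z))
        isClosed_irreducibleComponent
      have h1 : η ⤳ y := hη.specializes hyZ
      have h2 : η = y := hgen η h1
      have h3 : z ∈ closure ({η} : Set α) := by
        rw [hη.def]; exact mem_irreducibleComponent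
      rw [h2, hcl.closure_eq] at h3
      exact h3
  rw [heq]
  exact hC.isOpen_compl

/-- in a quasi-sober space, a closed point without proper generizations which has a Noetherian open
neighbourhood is open. -/
theorem isOpen_singleton_of_noetherianSpace_nhd {α : Type*} [TopologicalSpace α]
    [QuasiSober α] (y : α) (hcl : IsClosed ({y} : Set α)) (hgen : ∀ y', y' ⤳ y → y' = y)
    (U : Opens α) (hyU : y ∈ U) [NoetherianSpace U] : IsOpen ({y} : Set α) := by
  haveI : QuasiSober U := U.isOpenEmbedding'.quasiSober
  have h1 : IsOpen ({⟨y, hyU⟩} : Set U) := by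
    apply isOpen_singleton_of_noetherianSpace
    · have : ({⟨y, hyU⟩} : Set U) = Subtype.val ⁻¹' {y} := by
        ext z
        simp [Subtype.ext_iff]
      rw [this]
      exact hcl.preimage continuous_subtype_val
    · intro y' hy'
      have := hy'.map continuous_subtype_val
      exact Subtype.ext (hgen _ this)
  have := U.isOpenEmbedding'.isOpenMap _ h1
  rwa [Set.image_singleton] at this

end Groth.Agent.H5.FtPts
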