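import Mathlib.AlgebraicGeometry.Fiber
import Mathlib.AlgebraicGeometry.Morphisms.QuasiFinite

set_option autoImplicit false
universe u
open CategoryTheory CategoryTheory.Limits AlgebraicGeometry Opposite TopologicalSpace

namespace Groth.Agent.H5.FtPts

/-- a point of a fibre is closed in the fibre iff it has no proper specialization in the total
space lying in the fibre. -/
theorem isClosed_singleton_fiber_iff {X S : Scheme.{u}} (f : X ⟶ S) (s : S) (y : f.fiber s) :
    IsClosed ({y} : Set ↑(f.fiber s)) ↔
      ∀ z : X, f.fiberι s y ⤳ z → f z = s → z = f.fiberι s y := by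
  have hemb := (f.fiberι s).isEmbedding
  rw [← closure_subset_iff_isClosed]
  constructor
  · intro h z hz hfz
    have hzr : z ∈ Set.range (f.fiberι s) := by
      rw [f.range_fiberι]; exact hfz
    obtain ⟨y₂, rfl⟩ := hzr
    rw [hemb.toIsInducing.specializes_iff] at hz
    have : y₂ ∈ closure ({y} : Set ↑(f.fiber s)) := specializes_iff_mem_closure.mp hz
    rw [Set.mem_singleton_iff.mp (h this)]
  · intro h y₂ hy₂
    have h1 : y ⤳ y₂ := specializes_iff_mem_closure.mpr hy₂
    have h2 : f.fiberι s y ⤳ f.fiberι s y₂ := h1.map (f.fiberι s).continuous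
    have h3 : f (f.fiberι s y₂) = s := by
      have : f.fiberι s y₂ ∈ f ⁻¹' {s} := by
        rw [← f.range_fiberι]; exact ⟨y₂, rfl⟩
      exact this
    exact hemb.injective (h _ h2 h3)

theorem isClosed_singleton_asFiber_iff {X S : Scheme.{u}} (f : X ⟶ S) (x : X) :
    IsClosed ({f.asFiber x} : Set ↑(f.fiber (f x))) ↔
      ∀ z : X, x ⤳ z → f z = f x → z = x := by
  rw [isClosed_singleton_fiber_iff, f.fiberι_asFiber]

/-- two points of a discrete subset, one specializing to the other, are equal. -/
theorem eq_of_specializes_of_isDiscrete {α : Type*} [TopologicalSpace α] {D : Set α}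
    (hD : IsDiscrete D) {a b : α} (ha : a ∈ D) (hb : b ∈ D) (h : a ⤳ b) : a = b := by
  obtain ⟨O, hO, hOD⟩ := isDiscrete_iff_forall_mem_exists_isOpen.mp hD b hb
  have hbO : b ∈ O := by
    have : b ∈ O ∩ D := by rw [hOD]; rfl
    exact this.1
  have haO : a ∈ O := h.mem_open hO hbO
  have : a ∈ O ∩ D := ⟨haO, ha⟩
  rw [hOD] at this
  exact this

end Groth.Agent.H5.FtPts
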