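import Groth.Agent.Lib.Helper5.FtPts.FieldFiniteType
import Mathlib.AlgebraicGeometry.Morphisms.Finite
import Mathlib.AlgebraicGeometry.Morphisms.FiniteType
import Mathlib.AlgebraicGeometry.Morphisms.ClosedImmersion
import Mathlib.AlgebraicGeometry.ResidueField
import Mathlib.AlgebraicGeometry.Fiber

set_option autoImplicit false
universe u
open CategoryTheory CategoryTheory.Limits AlgebraicGeometry Opposite TopologicalSpace

namespace Groth.Agent.H5.FtPts

/-- a closed point of the source of an open immersion is closed in the range. -/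
lemma isClosed_singleton_opensRange {W S : Scheme.{u}} (j : W ⟶ S) [IsOpenImmersion j] (w₀ : W)
    (h : IsClosed ({w₀} : Set W)) :
    IsClosed ({⟨j w₀, ⟨w₀, rfl⟩⟩} : Set ↥(j.opensRange)) := by
  rw [← closure_subset_iff_isClosed]
  rintro ⟨z, hz⟩ hmem
  obtain ⟨z₀, rfl⟩ := hz
  have h1 : (⟨j w₀, ⟨w₀, rfl⟩⟩ : ↥(j.opensRange)) ⤳ ⟨j z₀, ⟨z₀, rfl⟩⟩ :=
    specializes_iff_mem_closure.mpr hmem
  have h2 : j w₀ ⤳ j z₀ := h1.map continuous_subtype_val
  rw [j.isOpenEmbedding.toIsInducing.specializes_iff] at h2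
  have h3 : z₀ ∈ closure ({w₀} : Set W) := specializes_iff_mem_closure.mp h2
  rw [h.closure_eq] at h3
  rw [Set.mem_singleton_iff.mp h3]
  rfl

/-- a point closed in an open subscheme is a finite type point. -/
theorem locallyOfFiniteType_fromSpecResidueField_of_isClosed {S : Scheme.{u}} (U : S.Opens)
    (u : S) (hu : u ∈ U) (hcl : IsClosed ({⟨u, hu⟩} : Set ↥U)) :
    LocallyOfFiniteType (S.fromSpecResidueField u) := by
  have hrange : Set.range (S.fromSpecResidueField u) ⊆ Set.range U.ι := by
    rw [Scheme.range_fromSpecResidueField, Scheme.Opens.range_ι]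
    exact Set.singleton_subset_iff.mpr hu
  let j' : Spec (S.residueField u) ⟶ U := IsOpenImmersion.lift U.ι (S.fromSpecResidueField u) hrange
  have hj' : j' ≫ U.ι = S.fromSpecResidueField u := IsOpenImmersion.lift_fac _ _ _
  haveI : IsPreimmersion (j' ≫ U.ι) := by rw [hj']; infer_instance
  haveI : IsPreimmersion j' := IsPreimmersion.of_comp j' U.ι
  have hrj' : Set.range j' = {⟨u, hu⟩} := by
    ext z
    constructor
    · rintro ⟨w, rfl⟩
      rw [Set.mem_singleton_iff]
      apply Subtype.ext
      show U.ι (j' w) = u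
      rw [← Scheme.Hom.comp_apply, hj', Scheme.fromSpecResidueField_apply]
    · intro hz
      rw [Set.mem_singleton_iff.mp hz]
      refine ⟨IsLocalRing.closedPoint _, ?_⟩
      apply Subtype.ext
      show U.ι (j' _) = u
      rw [← Scheme.Hom.comp_apply, hj', Scheme.fromSpecResidueField_apply]
  haveI : IsClosedImmersion j' := .of_isPreimmersion j' (by rw [hrj']; exact hcl)
  rw [← hj']
  infer_instance

/-- **Stacks 01TA**: the image point of a morphism locally of finite type from the spectrum of a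
field is closed in some affine open. -/
theorem exists_affineOpen_isClosed_of_locallyOfFiniteType {S : Scheme.{u}} {K : Type u}
    [Field K] (f : Spec (CommRingCat.of K) ⟶ S) [LocallyOfFiniteType f] :
    ∃ U : S.Opens, IsAffineOpen U ∧ ∃ hu : f (IsLocalRing.closedPoint K) ∈ U,
      IsClosed ({⟨f (IsLocalRing.closedPoint K), hu⟩} : Set ↥U) := by
  set pt : Spec (CommRingCat.of K) := IsLocalRing.closedPoint K with hpt
  haveI : Subsingleton (Spec (CommRingCat.of K)) :=
    inferInstanceAs (Subsingleton (PrimeSpectrum K))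
  obtain ⟨U₀, hU₀, huU₀, -⟩ := exists_isAffineOpen_mem_and_subset (x := f pt)
    (U := (⊤ : S.Opens)) trivial
  have hrange : Set.range f ⊆ Set.range hU₀.fromSpec := by
    rw [hU₀.range_fromSpec]
    rintro _ ⟨z, rfl⟩
    rw [Subsingleton.elim z pt]
    exact huU₀
  let f₀ : Spec (CommRingCat.of K) ⟶ Spec Γ(S, U₀) := IsOpenImmersion.lift hU₀.fromSpec f hrange
  have hf₀ : f₀ ≫ hU₀.fromSpec = f := IsOpenImmersion.lift_fac _ _ _
  haveI : LocallyOfFiniteType (f₀ ≫ hU₀.fromSpec) := by rw [hf₀]; infer_instance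
  haveI : LocallyOfFiniteType f₀ := locallyOfFiniteType_of_comp f₀ hU₀.fromSpec
  obtain ⟨φ, hφ⟩ := Spec.map_surjective f₀
  have hφft : φ.hom.FiniteType := by
    have h1 : LocallyOfFiniteType (Spec.map φ) := by rw [hφ]; infer_instance
    exact (HasRingHomProperty.Spec_iff (P := @LocallyOfFiniteType)).mp h1
  obtain ⟨a, ha, hfin⟩ := exists_away_finite_of_finiteType_field φ.hom hφft
  have hunit : IsUnit (φ.hom a) := isUnit_iff_ne_zero.mpr ha
  let ψ : Localization.Away a →+* K := IsLocalization.Away.lift a hunit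
  have hψ : ψ.comp (algebraMap Γ(S, U₀) (Localization.Away a)) = φ.hom :=
    IsLocalization.Away.lift_comp a hunit
  have hψfin : ψ.Finite := hfin (Localization.Away a) ψ hψ
  let j : Spec (CommRingCat.of (Localization.Away a)) ⟶ S :=
    Spec.map (CommRingCat.ofHom (algebraMap Γ(S, U₀) (Localization.Away a))) ≫ hU₀.fromSpec
  haveI : IsOpenImmersion j := by
    haveI : IsOpenImmersion (Spec.map (CommRingCat.ofHom
        (algebraMap Γ(S, U₀) (Localization.Away a)))) :=
      IsOpenImmersion.of_isLocalization a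
    infer_instance
  have hfj : Spec.map (CommRingCat.ofHom ψ) ≫ j = f := by
    rw [← hf₀, ← hφ]
    show Spec.map (CommRingCat.ofHom ψ) ≫ Spec.map _ ≫ _ = _
    rw [← Category.assoc, ← Spec.map_comp]
    congr 2
    ext x
    exact congrArg (fun g : Γ(S, U₀) →+* K => g x) hψ
  haveI : IsFinite (Spec.map (CommRingCat.ofHom ψ)) := (IsFinite.SpecMap_iff _).mpr hψfin
  let w₀ := Spec.map (CommRingCat.ofHom ψ) pt
  have hw₀ : IsClosed ({w₀} : Set (Spec (CommRingCat.of (Localization.Away a)))) := by
    have := (Spec.map (CommRingCat.ofHom ψ)).isClosedMap.isClosed_range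
    convert this
    ext z
    constructor
    · intro hz
      exact ⟨pt, (Set.mem_singleton_iff.mp hz).symm⟩
    · rintro ⟨z', rfl⟩
      rw [Subsingleton.elim z' pt]
      rfl
  have hjw₀ : j w₀ = f pt := by
    rw [← hfj]
    rfl
  refine ⟨j.opensRange, isAffineOpen_opensRange j, ?_⟩
  rw [← hjw₀]
  exact ⟨⟨w₀, rfl⟩, isClosed_singleton_opensRange j w₀ hw₀⟩

end Groth.Agent.H5.FtPts
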