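import Groth.Agent.Lib.Helper5.FtPts.ArtinFT
import Groth.Agent.Lib.Helper5.FtPts.FtPoints

set_option autoImplicit false
universe u
open CategoryTheory CategoryTheory.Limits AlgebraicGeometry Opposite TopologicalSpace

namespace Groth.Agent.H5.FtPts

lemma subsingleton_primeSpectrum_of_artinian_local (A : Type*) [CommRing A] [IsArtinianRing A]
    [IsLocalRing A] : Subsingleton (PrimeSpectrum A) := by
  refine ⟨fun p q => ?_⟩
  have hp : p.asIdeal.IsMaximal := (IsArtinianRing.isPrime_iff_isMaximal p.asIdeal).mp p.isPrime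
  have hq : q.asIdeal.IsMaximal := (IsArtinianRing.isPrime_iff_isMaximal q.asIdeal).mp q.isPrime
  apply PrimeSpectrum.ext
  rw [IsLocalRing.eq_maximalIdeal hp, IsLocalRing.eq_maximalIdeal hq]

/-- **Stacks 01TB**. -/
theorem finiteType_from_artinian_local_iff (S : Scheme.{u}) (A : Type u) [CommRing A]
    [IsArtinianRing A] [IsLocalRing A] (f : Spec (CommRingCat.of A) ⟶ S) :
    LocallyOfFiniteType f ↔
      LocallyOfFiniteType (Spec.map (CommRingCat.ofHom (IsLocalRing.residue A)) ≫ f) := by
  haveI : IsClosedImmersion (Spec.map (CommRingCat.ofHom (IsLocalRing.residue A))) :=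
    IsClosedImmersion.spec_of_surjective _ IsLocalRing.residue_surjective
  constructor
  · intro h
    infer_instance
  · intro h
    haveI : Subsingleton (Spec (CommRingCat.of A)) :=
      subsingleton_primeSpectrum_of_artinian_local A
    let pt : Spec (CommRingCat.of A) := IsLocalRing.closedPoint A
    obtain ⟨U₀, hU₀, huU₀, -⟩ := exists_isAffineOpen_mem_and_subset (x := f pt)
      (U := (⊤ : S.Opens)) trivial
    have hrange : Set.range f ⊆ Set.range hU₀.fromSpec := by
      rw [hU₀.range_fromSpec]
      rintro _ ⟨z, rfl⟩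
      rw [Subsingleton.elim z pt]
      exact huU₀
    let f₀ : Spec (CommRingCat.of A) ⟶ Spec Γ(S, U₀) := IsOpenImmersion.lift hU₀.fromSpec f hrange
    have hf₀ : f₀ ≫ hU₀.fromSpec = f := IsOpenImmersion.lift_fac _ _ _
    obtain ⟨φ, hφ⟩ := Spec.map_surjective f₀
    haveI : LocallyOfFiniteType ((Spec.map (CommRingCat.ofHom (IsLocalRing.residue A)) ≫ f₀) ≫
        hU₀.fromSpec) := by
      rw [Category.assoc, hf₀]; exact h
    haveI : LocallyOfFiniteType (Spec.map (CommRingCat.ofHom (IsLocalRing.residue A)) ≫ f₀) :=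
      locallyOfFiniteType_of_comp _ hU₀.fromSpec
    have h1 : LocallyOfFiniteType (Spec.map (φ ≫ CommRingCat.ofHom (IsLocalRing.residue A))) := by
      rw [Spec.map_comp, hφ]; infer_instance
    have h2 : ((IsLocalRing.residue A).comp φ.hom).FiniteType :=
      (HasRingHomProperty.Spec_iff (P := @LocallyOfFiniteType)).mp h1
    have h3 : φ.hom.FiniteType := finiteType_of_residue_comp_finiteType φ.hom h2
    haveI : LocallyOfFiniteType f₀ := by
      rw [← hφ]
      exact (HasRingHomProperty.Spec_iff (P := @LocallyOfFiniteType)).mpr h3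
    rw [← hf₀]
    infer_instance

end Groth.Agent.H5.FtPts
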