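import Groth.Agent.Lib.Helper5.FtPts.FtPoints

set_option autoImplicit false
universe u
open CategoryTheory CategoryTheory.Limits AlgebraicGeometry Opposite TopologicalSpace

namespace Groth.Agent.H5.FtPts

/-- the image point of a morphism locally of finite type from the spectrum of a field is a
finite type point. -/
theorem locallyOfFiniteType_fromSpecResidueField_of_field {S : Scheme.{u}} {K : Type u}
    [Field K] (f : Spec (CommRingCat.of K) ⟶ S) [LocallyOfFiniteType f] (s : S)
    (hs : f (IsLocalRing.closedPoint K) = s) :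
    LocallyOfFiniteType (S.fromSpecResidueField s) := by
  obtain ⟨U, hU, hu, hcl⟩ := exists_affineOpen_isClosed_of_locallyOfFiniteType f
  refine locallyOfFiniteType_fromSpecResidueField_of_isClosed U s (hs ▸ hu) ?_
  convert hcl using 2
  exact Subtype.ext hs.symm

/-- **Stacks 01TB**: a morphism locally of finite type maps finite type points to finite type
points. -/
theorem image_finiteTypePoints_subset {T S : Scheme.{u}} (f : T ⟶ S) [LocallyOfFiniteType f] :
    f.base '' {t : ↑T | LocallyOfFiniteType (T.fromSpecResidueField t)} ⊆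
      {s : ↑S | LocallyOfFiniteType (S.fromSpecResidueField s)} := by
  rintro _ ⟨t, ht, rfl⟩
  haveI : LocallyOfFiniteType (T.fromSpecResidueField t) := ht
  refine locallyOfFiniteType_fromSpecResidueField_of_field (K := T.residueField t)
    (T.fromSpecResidueField t ≫ f) (f t) ?_
  rw [Scheme.Hom.comp_apply, Scheme.fromSpecResidueField_apply]

end Groth.Agent.H5.FtPts

namespace Groth.Agent.H5.FtPts

/-- a nonempty closed subset of an affine open contains a point which is closed in the affine
open. -/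
theorem exists_isClosed_singleton_of_isAffineOpen {Y : Scheme.{u}} {V : Y.Opens}
    (hV : IsAffineOpen V) (C : Set ↥V) (hC : IsClosed C) (hne : C.Nonempty) :
    ∃ y ∈ C, IsClosed ({y} : Set ↥V) := by
  haveI : CompactSpace ↥V := isCompact_iff_compactSpace.mp hV.isCompact
  exact hC.exists_closed_singleton hne

/-- **Stacks 01TB**: a surjective morphism locally of finite type maps the finite type points
onto the finite type points. -/
theorem image_finiteTypePoints_eq {T S : Scheme.{u}} (f : T ⟶ S) [LocallyOfFiniteType f]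
    [Surjective f] :
    f.base '' {t : ↑T | LocallyOfFiniteType (T.fromSpecResidueField t)} =
      {s : ↑S | LocallyOfFiniteType (S.fromSpecResidueField s)} := by
  apply subset_antisymm (image_finiteTypePoints_subset f)
  intro s hs
  haveI : LocallyOfFiniteType (S.fromSpecResidueField s) := hs
  obtain ⟨t₀, ht₀⟩ := f.surjective s
  let y₀ : f.fiber s := (f.fiberHomeo s).symm ⟨t₀, ht₀⟩
  obtain ⟨V, hV, hy₀V, -⟩ := exists_isAffineOpen_mem_and_subset (x := y₀)
    (U := (⊤ : (f.fiber s).Opens)) trivial
  obtain ⟨y, -, hycl⟩ := exists_isClosed_singleton_of_isAffineOpen hV Set.univ isClosed_univ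
    ⟨⟨y₀, hy₀V⟩, trivial⟩
  haveI h1 : LocallyOfFiniteType ((f.fiber s).fromSpecResidueField y.1) :=
    locallyOfFiniteType_fromSpecResidueField_of_isClosed V y.1 y.2 hycl
  haveI : LocallyOfFiniteType (f.fiberι s) := MorphismProperty.pullback_fst _ _ hs
  refine ⟨f.fiberι s y.1, ?_, ?_⟩
  · refine locallyOfFiniteType_fromSpecResidueField_of_field (K := (f.fiber s).residueField y.1)
      ((f.fiber s).fromSpecResidueField y.1 ≫ f.fiberι s) _ ?_
    rw [Scheme.Hom.comp_apply, Scheme.fromSpecResidueField_apply]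
  · have : f.fiberι s y.1 ∈ f ⁻¹' {s} := by
      rw [← f.range_fiberι]; exact ⟨y.1, rfl⟩
    exact this

end Groth.Agent.H5.FtPts

namespace Groth.Agent.H5.FtPts

/-- **Stacks 02J4**: every nonempty locally closed subset contains a finite type point, and the
finite type points of a closed subset are dense in it. -/
theorem finiteTypePoints_dense (S : Scheme.{u}) :
    (∀ Z : Set ↑S, IsLocallyClosed Z → Z.Nonempty →
        (Z ∩ {s : ↑S | LocallyOfFiniteType (S.fromSpecResidueField s)}).Nonempty) ∧
      ∀ Z : Set ↑S, IsClosed Z →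
        Z ⊆ closure (Z ∩ {s : ↑S | LocallyOfFiniteType (S.fromSpecResidueField s)}) := by
  have h1 : ∀ Z : Set ↑S, IsLocallyClosed Z → Z.Nonempty →
      (Z ∩ {s : ↑S | LocallyOfFiniteType (S.fromSpecResidueField s)}).Nonempty := by
    rintro Z ⟨O, C, hO, hC, rfl⟩ ⟨z, hzO, hzC⟩
    obtain ⟨V, hV, hzV, hVO⟩ := exists_isAffineOpen_mem_and_subset (x := z)
      (U := (⟨O, hO⟩ : S.Opens)) hzO
    obtain ⟨y, hyC, hycl⟩ := exists_isClosed_singleton_of_isAffineOpen hV
      (Subtype.val ⁻¹' C) (hC.preimage continuous_subtype_val) ⟨⟨z, hzV⟩, hzC⟩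
    exact ⟨y.1, ⟨hVO y.2, hyC⟩,
      locallyOfFiniteType_fromSpecResidueField_of_isClosed V y.1 y.2 hycl⟩
  refine ⟨h1, fun Z hZ z hz => ?_⟩
  rw [mem_closure_iff]
  intro o ho hzo
  obtain ⟨y, ⟨hyo, hyZ⟩, hyft⟩ := h1 (o ∩ Z) ⟨o, Z, ho, hZ, rfl⟩ ⟨z, hzo, hz⟩
  exact ⟨y, hyo, hyZ, hyft⟩

end Groth.Agent.H5.FtPts
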