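import Groth.Agent.Lib.Helper5.FtPts.FiberBaseChange
import Groth.Agent.Lib.Helper5.FtPts.IsolatedPoint
import Mathlib.AlgebraicGeometry.Noetherian
import Mathlib.FieldTheory.Tower

set_option autoImplicit false
universe u
open CategoryTheory CategoryTheory.Limits AlgebraicGeometry Opposite TopologicalSpace

namespace Groth.Agent.H5.FtPts

/-- in a tower of fields `F → K → A` with `A` finite over `F`, `K` is finite over `F`. -/
lemma finite_of_comp_finite_field {F K A : Type*} [Field F] [Field K] [CommRing A] [Nontrivial A]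
    (φ : F →+* K) (ψ : K →+* A) (h : (ψ.comp φ).Finite) : φ.Finite := by
  letI := φ.toAlgebra
  letI := ψ.toAlgebra
  letI := (ψ.comp φ).toAlgebra
  haveI : IsScalarTower F K A := IsScalarTower.of_algebraMap_eq (fun _ => rfl)
  haveI : Module.Finite F A := h
  exact FiniteDimensional.left F K A

/-- quasi-finiteness at a point in terms of the fibre (for morphisms locally of finite type). -/
theorem quasiFiniteAt_iff_isClosed_and_no_generization {X S : Scheme.{u}} (f : X ⟶ S)
    [LocallyOfFiniteType f] (x : X) :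
    f.QuasiFiniteAt x ↔
      (IsClosed ({f.asFiber x} : Set ↑(f.fiber (f.base x))) ∧
        ∀ x' : ↑(f.fiber (f.base x)), x' ⤳ f.asFiber x → x' = f.asFiber x) := by
  constructor
  · intro hx
    have hclopen := hx.isClopen_singleton_asFiber
    exact ⟨hclopen.1, fun x' hx' => hx'.mem_open hclopen.2 rfl⟩
  · rintro ⟨hcl, hgen⟩
    rw [Scheme.Hom.quasiFiniteAt_iff_isOpen_singleton_asFiber]
    haveI : LocallyOfFiniteType (f.fiberToSpecResidueField (f.base x)) :=
      MorphismProperty.pullback_snd _ _ inferInstance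
    haveI : IsLocallyNoetherian (f.fiber (f.base x)) :=
      LocallyOfFiniteType.isLocallyNoetherian (f.fiberToSpecResidueField (f.base x))
    obtain ⟨U, hU, hyU, -⟩ := exists_isAffineOpen_mem_and_subset (x := f.asFiber x)
      (U := (⊤ : (f.fiber (f.base x)).Opens)) trivial
    haveI : IsNoetherianRing Γ(f.fiber (f.base x), U) :=
      IsLocallyNoetherian.component_noetherian ⟨U, hU⟩
    exact @Groth.Agent.H5.FtPts.isOpen_singleton_of_noetherianSpace_nhd _ _ _ _ hcl hgen U hyU
      (noetherianSpace_of_isAffineOpen U hU)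

/-- if every point is closed in its fibre, the morphism (locally of finite type) is locally
quasi-finite. -/
theorem locallyQuasiFinite_of_forall_closed_in_fiber {Y S : Scheme.{u}} (g : Y ⟶ S)
    [LocallyOfFiniteType g] (hcl : ∀ y z : Y, y ⤳ z → g z = g y → z = y) :
    LocallyQuasiFinite g := by
  have hqf : ∀ y : Y, g.QuasiFiniteAt y := by
    intro y
    rw [quasiFiniteAt_iff_isClosed_and_no_generization]
    refine ⟨(isClosed_singleton_asFiber_iff g y).mpr (hcl y), fun y'' hy'' => ?_⟩
    have h1 : IsClosed ({y''} : Set ↑(g.fiber (g y))) := by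
      rw [isClosed_singleton_fiber_iff]
      intro z hz hgz
      apply hcl _ _ hz
      rw [hgz]
      have : g.fiberι (g y) y'' ∈ g ⁻¹' {g y} := by
        rw [← g.range_fiberι]; exact ⟨y'', rfl⟩
      exact this.symm
    have h2 : g.asFiber y ∈ closure ({y''} : Set ↑(g.fiber (g y))) :=
      specializes_iff_mem_closure.mp hy''
    rw [h1.closure_eq] at h2
    exact (Set.mem_singleton_iff.mp h2).symm
  rw [locallyQuasiFinite_iff_isDiscrete_preimage_singleton]
  intro s
  rw [isDiscrete_iff_forall_mem_exists_isOpen]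
  rintro y rfl
  have hopen : IsOpen ({g.asFiber y} : Set ↑(g.fiber (g y))) :=
    Scheme.Hom.quasiFiniteAt_iff_isOpen_singleton_asFiber.mp (hqf y)
  obtain ⟨O, hO, hOeq⟩ := (g.fiberι (g y)).isEmbedding.toIsInducing.isOpen_iff.mp hopen
  refine ⟨O, hO, ?_⟩
  rw [← g.range_fiberι, ← Set.image_preimage_eq_inter_range, hOeq, Set.image_singleton,
    g.fiberι_asFiber]

/-- EGA / Stacks: if `f` is surjective, `g` locally of finite type and `f ≫ g` locally
quasi-finite, then `g` is locally quasi-finite. -/
theorem locallyQuasiFinite_of_comp_of_surjective {X Y S : Scheme.{u}} (f : X ⟶ Y) (g : Y ⟶ S)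
    [Surjective f] [LocallyQuasiFinite (f ≫ g)] [LocallyOfFiniteType (f ≫ g)]
    [LocallyOfFiniteType g] : LocallyQuasiFinite g := by
  apply locallyQuasiFinite_of_forall_closed_in_fiber
  intro y
  rw [← isClosed_singleton_asFiber_iff, isClosed_singleton_asFiber_iff_finite]
  obtain ⟨x, rfl⟩ := f.surjective y
  have h1 : IsClosed ({(f ≫ g).asFiber x} : Set ↑((f ≫ g).fiber ((f ≫ g) x))) :=
    (((f ≫ g).quasiFiniteAt x).isClopen_singleton_asFiber).1
  have h2 : ((f ≫ g).residueFieldMap x).hom.Finite :=
    (isClosed_singleton_asFiber_iff_finite (f ≫ g) x).mp h1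
  rw [Scheme.residueFieldMap_comp] at h2
  exact finite_of_comp_finite_field _ _ h2

end Groth.Agent.H5.FtPts
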