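import Mathlib.RingTheory.Artinian.Ring
import Mathlib.RingTheory.HopkinsLevitzki
import Mathlib.RingTheory.FiniteType
import Mathlib.RingTheory.LocalRing.ResidueField.Basic
import Mathlib.RingTheory.RingHom.FiniteType

set_option autoImplicit false
open IsLocalRing

namespace Groth.Agent.H5.FtPts

/-- **Stacks 01TB (algebra)**: a ring map to an Artinian local ring is of finite type as soon as
the induced map to the residue field is. -/
theorem finiteType_of_residue_comp_finiteType {R A : Type*} [CommRing R] [CommRing A]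
    [IsArtinianRing A] [IsLocalRing A] (φ : R →+* A)
    (h : ((IsLocalRing.residue A).comp φ).FiniteType) : φ.FiniteType := by
  classical
  letI : Algebra R A := φ.toAlgebra
  letI : Algebra R (ResidueField A) := ((IsLocalRing.residue A).comp φ).toAlgebra
  haveI : IsScalarTower R A (ResidueField A) := IsScalarTower.of_algebraMap_eq (fun _ => rfl)
  haveI : Algebra.FiniteType R (ResidueField A) := h
  obtain ⟨s, hs⟩ := (Algebra.FiniteType.out : (⊤ : Subalgebra R (ResidueField A)).FG)
  -- lifts of the generators
  have hsurj : Function.Surjective (IsLocalRing.residue A) := IsLocalRing.residue_surjective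
  choose lift hlift using hsurj
  let s' : Finset A := s.image lift
  obtain ⟨t, ht⟩ := (IsNoetherian.noetherian (maximalIdeal A) : (maximalIdeal A).FG)
  let R' : Subalgebra R A := Algebra.adjoin R ((s' ∪ t : Finset A) : Set A)
  have htR' : ∀ x ∈ t, x ∈ R' := fun x hx =>
    Algebra.subset_adjoin (Finset.mem_coe.mpr (Finset.mem_union_right _ hx))
  -- step 1
  have hstep1 : ∀ a : A, ∃ b ∈ R', a - b ∈ maximalIdeal A := by
    intro a
    let ρ : A →ₐ[R] ResidueField A := IsScalarTower.toAlgHom R A (ResidueField A)
    have hmap : (Algebra.adjoin R ((s' : Finset A) : Set A)).map ρ = ⊤ := by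
      rw [AlgHom.map_adjoin, ← hs]
      congr 1
      ext x
      simp only [s', Finset.coe_image, Set.mem_image, Finset.mem_coe]
      constructor
      · rintro ⟨_, ⟨y, hy, rfl⟩, rfl⟩
        have : ρ (lift y) = y := hlift y
        rwa [this]
      · intro hx
        exact ⟨lift x, ⟨x, hx, rfl⟩, hlift x⟩
    have ha : ρ a ∈ (Algebra.adjoin R ((s' : Finset A) : Set A)).map ρ := by
      rw [hmap]; trivial
    obtain ⟨b, hb, hba⟩ := ha
    refine ⟨b, Algebra.adjoin_mono (by simp) hb, ?_⟩
    have : IsLocalRing.residue A (a - b) = 0 := by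
      rw [map_sub, sub_eq_zero]
      exact hba.symm
    exact (IsLocalRing.residue_eq_zero_iff _).mp this
  -- P(k)
  have hP : ∀ k : ℕ, ∀ y ∈ maximalIdeal A ^ k, ∃ b ∈ R', y - b ∈ maximalIdeal A ^ (k + 1) := by
    intro k
    induction k with
    | zero =>
      intro y _
      simpa using hstep1 y
    | succ k ih =>
      intro y hy
      rw [pow_succ'] at hy
      refine Submodule.mul_induction_on hy ?_ ?_
      · intro r hr n hn
        rw [← ht] at hr
        revert n
        refine Submodule.span_induction ?_ ?_ ?_ ?_ hr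
        · intro x hx n hn
          obtain ⟨b, hb, hbn⟩ := ih n hn
          refine ⟨x * b, R'.mul_mem (htR' x hx) hb, ?_⟩
          rw [← mul_sub, pow_succ' _ (k + 1)]
          refine Ideal.mul_mem_mul ?_ hbn
          rw [← ht]
          exact Ideal.subset_span hx
        · intro n _
          exact ⟨0, R'.zero_mem, by simp⟩
        · intro x y _ _ hx hy n hn
          obtain ⟨b₁, hb₁, h₁⟩ := hx n hn
          obtain ⟨b₂, hb₂, h₂⟩ := hy n hn
          refine ⟨b₁ + b₂, R'.add_mem hb₁ hb₂, ?_⟩
          have : (x + y) * n - (b₁ + b₂) = (x * n - b₁) + (y * n - b₂) := by ring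
          rw [this]
          exact Ideal.add_mem _ h₁ h₂
        · intro a x _ hx n hn
          obtain ⟨b, hb, hbn⟩ := hx (a * n) (Ideal.mul_mem_left _ a hn)
          refine ⟨b, hb, ?_⟩
          have : a • x * n - b = x * (a * n) - b := by rw [smul_eq_mul]; ring
          rw [this]
          exact hbn
      · rintro x y ⟨b₁, hb₁, h₁⟩ ⟨b₂, hb₂, h₂⟩
        refine ⟨b₁ + b₂, R'.add_mem hb₁ hb₂, ?_⟩
        have : x + y - (b₁ + b₂) = (x - b₁) + (y - b₂) := by ring
        rw [this]
        exact Ideal.add_mem _ h₁ h₂
  -- nilpotency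
  obtain ⟨N, hN⟩ : ∃ N : ℕ, maximalIdeal A ^ N = ⊥ := by
    have := IsArtinianRing.isNilpotent_jacobson_bot (R := A)
    rw [IsLocalRing.jacobson_eq_maximalIdeal ⊥ bot_ne_top] at this
    exact this
  have hQ : ∀ j : ℕ, j ≤ N → ∀ y ∈ maximalIdeal A ^ (N - j), y ∈ R' := by
    intro j
    induction j with
    | zero =>
      intro _ y hy
      rw [Nat.sub_zero, hN] at hy
      rw [(Submodule.mem_bot A).mp hy]
      exact R'.zero_mem
    | succ j ih =>
      intro hj y hy
      obtain ⟨b, hb, hby⟩ := hP _ y hy
      have e : N - (j + 1) + 1 = N - j := by omega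
      rw [e] at hby
      have := ih (by omega) _ hby
      have h2 : y = (y - b) + b := by ring
      rw [h2]
      exact R'.add_mem this hb
  have htop : R' = ⊤ := by
    rw [eq_top_iff]
    intro y _
    have := hQ N le_rfl y (by rw [Nat.sub_self, pow_zero, Ideal.one_eq_top]; trivial)
    exact this
  exact (⟨⟨(s' ∪ t : Finset A), htop⟩⟩ : Algebra.FiniteType R A)

end Groth.Agent.H5.FtPts
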