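import Groth.Agent.Lib.Helper5.FtPts.FiberClosed
import Mathlib.AlgebraicGeometry.Morphisms.Finite
import Mathlib.RingTheory.Jacobson.Ring

set_option autoImplicit false
universe u
open CategoryTheory CategoryTheory.Limits AlgebraicGeometry Opposite TopologicalSpace

namespace Groth.Agent.H5.FtPts

/-- a point is closed in its fibre iff its residue field is finite over that of its image
(for morphisms locally of finite type). -/
theorem isClosed_singleton_asFiber_iff_finite {X S : Scheme.{u}} (f : X ⟶ S)
    [LocallyOfFiniteType f] (x : X) :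
    IsClosed ({f.asFiber x} : Set ↑(f.fiber (f.base x))) ↔ (f.residueFieldMap x).hom.Finite := by
  have hcomp : f.asFiberHom x ≫ f.fiberToSpecResidueField _ = Spec.map (f.residueFieldMap x) :=
    f.asFiberHom_fiberToSpecResidueField x
  have : LocallyOfFiniteType (f.fiberToSpecResidueField (f.base x)) :=
    MorphismProperty.pullback_snd _ _ inferInstance
  have hfin_iff : IsFinite (f.asFiberHom x) ↔ LocallyOfFiniteType (f.asFiberHom x) :=
    isFinite_iff_locallyOfFiniteType_of_jacobsonSpace
  constructor
  · intro hcl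
    have hrange : IsClosed (Set.range (f.asFiberHom x).base) := by
      rw [f.range_asFiberHom x]; exact hcl
    have : IsClosedImmersion (f.asFiberHom x) := .of_isPreimmersion _ hrange
    have : LocallyOfFiniteType (Spec.map (f.residueFieldMap x)) := by
      rw [← hcomp]; infer_instance
    have hft : (f.residueFieldMap x).hom.FiniteType :=
      (HasRingHomProperty.Spec_iff (P := @LocallyOfFiniteType)).mp inferInstance
    exact RingHom.finite_iff_finiteType_of_isJacobsonRing.mpr hft
  · intro hfin
    have : IsFinite (Spec.map (f.residueFieldMap x)) := (IsFinite.SpecMap_iff _).mpr hfin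
    have : LocallyOfFiniteType (f.asFiberHom x ≫ f.fiberToSpecResidueField _) := by
      rw [hcomp]; infer_instance
    have : LocallyOfFiniteType (f.asFiberHom x) :=
      locallyOfFiniteType_of_comp _ (f.fiberToSpecResidueField _)
    have : IsFinite (f.asFiberHom x) := hfin_iff.mpr inferInstance
    have := (f.asFiberHom x).isClosedMap.isClosed_range
    rwa [f.range_asFiberHom x] at this


theorem isClosed_singleton_asFiber_baseChange {X S X' S' : Scheme.{u}} (f : X ⟶ S)
    [LocallyOfFiniteType f] (g : S' ⟶ S)
    (g' : X' ⟶ X) (f' : X' ⟶ S') (hsq : IsPullback g' f' f g) (x' : X')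
    (hx : IsClosed ({f.asFiber (g'.base x')} : Set ↑(f.fiber (f.base (g'.base x'))))) :
    IsClosed ({f'.asFiber x'} : Set ↑(f'.fiber (f'.base x'))) := by
  have hfin : (f.residueFieldMap (g' x')).hom.Finite :=
    (isClosed_singleton_asFiber_iff_finite f (g' x')).mp hx
  rw [isClosed_singleton_asFiber_iff] at hx ⊢
  intro z' hz' hfz'
  have hcomm : ∀ a : X', f (g' a) = g (f' a) := by
    intro a
    rw [← Scheme.Hom.comp_apply, ← Scheme.Hom.comp_apply, hsq.w]
  have hgz' : g' z' = g' x' := by
    apply hx _ (hz'.map g'.continuous)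
    rw [hcomm, hfz', ← hcomm]
  let h := X.fromSpecResidueField (g' x')
  let ι : pullback h g' ⟶ X' := pullback.snd h g'
  haveI : IsPreimmersion ι := MorphismProperty.pullback_snd _ _ inferInstance
  have hrange : Set.range ι = g' ⁻¹' {g' x'} := by
    rw [Scheme.Pullback.range_snd, Scheme.range_fromSpecResidueField]
  obtain ⟨w, hw⟩ : x' ∈ Set.range ι := by rw [hrange]; rfl
  obtain ⟨wz, hwz⟩ : z' ∈ Set.range ι := by rw [hrange]; exact hgz'
  have hpb : IsPullback (pullback.fst h g') (ι ≫ f') (h ≫ f) g :=
    (IsPullback.of_hasPullback h g').paste_vert hsq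
  haveI : IsFinite (Spec.map (f.residueFieldMap (g' x'))) := (IsFinite.SpecMap_iff _).mpr hfin
  haveI : LocallyQuasiFinite (h ≫ f) := by
    rw [← Scheme.Hom.SpecMap_residueFieldMap_fromSpecResidueField]
    infer_instance
  haveI : LocallyQuasiFinite (ι ≫ f') := MorphismProperty.of_isPullback hpb ‹_›
  have hD := (ι ≫ f').isDiscrete_preimage_singleton (f' x')
  have hsp : w ⤳ wz := by
    rw [← ι.isEmbedding.toIsInducing.specializes_iff, hw, hwz]
    exact hz'
  have hwD : w ∈ (ι ≫ f') ⁻¹' {f' x'} := by
    show (ι ≫ f') w = f' x'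
    rw [Scheme.Hom.comp_apply, hw]
  have hwzD : wz ∈ (ι ≫ f') ⁻¹' {f' x'} := by
    show (ι ≫ f') wz = f' x'
    rw [Scheme.Hom.comp_apply, hwz, hfz']
  have := eq_of_specializes_of_isDiscrete hD hwD hwzD hsp
  rw [← hwz, ← this, hw]

end Groth.Agent.H5.FtPts
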