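import Mathlib.RingTheory.Jacobson.Ring
import Mathlib.RingTheory.Localization.Integral
import Mathlib.RingTheory.Algebraic.Integral
import Mathlib.RingTheory.Localization.Away.Basic
import Mathlib.RingTheory.FiniteType

set_option autoImplicit false
open Polynomial

namespace Groth.Agent.H5.FtPts

/-- a field which is of finite type over a domain is algebraic over it. -/
theorem isAlgebraic_of_finiteType_field (D K : Type*) [CommRing D] [IsDomain D] [Field K]
    [Algebra D K] [Algebra.FiniteType D K] (hinj : Function.Injective (algebraMap D K)) :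
    Algebra.IsAlgebraic D K := by
  letI : Algebra (FractionRing D) K := (IsFractionRing.lift hinj).toAlgebra
  haveI : IsScalarTower D (FractionRing D) K :=
    IsScalarTower.of_algebraMap_eq (fun x => (IsFractionRing.lift_algebraMap hinj x).symm)
  haveI : Algebra.FiniteType (FractionRing D) K :=
    Algebra.FiniteType.of_restrictScalars_finiteType D (FractionRing D) K
  haveI : Module.Finite (FractionRing D) K :=
    finite_of_finite_type_of_isJacobsonRing (FractionRing D) K
  haveI : Algebra.IsAlgebraic (FractionRing D) K := Algebra.IsAlgebraic.of_finite _ _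
  exact (IsFractionRing.comap_isAlgebraic_iff (A := D) (K := FractionRing D) (C := K)).mpr
    inferInstance

/-- **Stacks 00FY**: if `φ : A → K` is a ring homomorphism of finite type to a field, there is
`a ∈ A` with `φ a ≠ 0` such that `K` is finite over `A_a`. -/
theorem exists_away_finite_of_finiteType_field {A K : Type*} [CommRing A] [Field K]
    (φ : A →+* K) (hφ : φ.FiniteType) :
    ∃ a : A, φ a ≠ 0 ∧ ∀ (B : Type*) [CommRing B] [Algebra A B] [IsLocalization.Away a B]
      (ψ : B →+* K), ψ.comp (algebraMap A B) = φ → ψ.Finite := by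
  classical
  letI : Algebra A K := φ.toAlgebra
  haveI : Algebra.FiniteType A K := hφ
  let D := A ⧸ RingHom.ker φ
  haveI : (RingHom.ker φ).IsPrime := RingHom.ker_isPrime φ
  letI : Algebra D K := (RingHom.kerLift φ).toAlgebra
  haveI : IsScalarTower A D K := IsScalarTower.of_algebraMap_eq (fun x => rfl)
  have hinj : Function.Injective (algebraMap D K) := RingHom.kerLift_injective φ
  haveI : Algebra.FiniteType D K := Algebra.FiniteType.of_restrictScalars_finiteType A D K
  haveI : Algebra.IsAlgebraic D K := isAlgebraic_of_finiteType_field D K hinj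
  obtain ⟨s, hs⟩ := (Algebra.FiniteType.out : (⊤ : Subalgebra A K).FG)
  obtain ⟨d, hd, hint⟩ := Algebra.IsAlgebraic.exists_integral_multiples D s
  obtain ⟨a, rfl⟩ := Ideal.Quotient.mk_surjective d
  have hφa : φ a ≠ 0 := by
    intro h
    apply hd
    exact (Ideal.Quotient.eq_zero_iff_mem).mpr ((RingHom.mem_ker).mpr h)
  refine ⟨a, hφa, ?_⟩
  intro B _ _ _ ψ hψ
  letI : Algebra B K := ψ.toAlgebra
  haveI : IsScalarTower A B K := IsScalarTower.of_algebraMap_eq (fun x => by
    show φ x = ψ (algebraMap A B x)
    rw [← hψ]; rfl)
  haveI : Algebra.IsIntegral A D := Algebra.isIntegral_of_surjective Ideal.Quotient.mk_surjective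
  have hintB : ∀ z ∈ s, IsIntegral B z := by
    intro z hz
    have h1 : IsIntegral A (Ideal.Quotient.mk (RingHom.ker φ) a • z) :=
      isIntegral_trans (A := D) _ (hint z hz)
    have h2 : IsIntegral B (Ideal.Quotient.mk (RingHom.ker φ) a • z) := h1.tower_top
    have hu : IsUnit (algebraMap A B a) := IsLocalization.Away.algebraMap_isUnit a
    obtain ⟨u, hu⟩ := hu
    have h3 : z = algebraMap B K (↑u⁻¹ : B) * (Ideal.Quotient.mk (RingHom.ker φ) a • z) := by
      have e1 : Ideal.Quotient.mk (RingHom.ker φ) a • z = algebraMap A K a * z := by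
        rw [Algebra.smul_def]; rfl
      have e2 : algebraMap A K a = algebraMap B K (algebraMap A B a) :=
        IsScalarTower.algebraMap_apply A B K a
      rw [e1, e2, ← hu, ← mul_assoc, ← map_mul, Units.inv_mul, map_one, one_mul]
    rw [h3]
    exact isIntegral_algebraMap.mul h2
  have hadj : Algebra.adjoin B (s : Set K) = ⊤ := by
    rw [eq_top_iff]
    intro x _
    have hx : x ∈ Algebra.adjoin A (s : Set K) := by rw [hs]; trivial
    have hle : (Algebra.adjoin A (s : Set K) : Set K) ⊆ Algebra.adjoin B (s : Set K) := by
      intro y hy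
      induction hy using Algebra.adjoin_induction with
      | mem y hy => exact Algebra.subset_adjoin hy
      | algebraMap r =>
        rw [IsScalarTower.algebraMap_apply A B K]
        exact Subalgebra.algebraMap_mem _ _
      | add y z _ _ hy hz => exact Subalgebra.add_mem _ hy hz
      | mul y z _ _ hy hz => exact Subalgebra.mul_mem _ hy hz
    exact hle hx
  haveI : Algebra.IsIntegral B K := by
    refine ⟨fun x => ?_⟩
    have hx : x ∈ Algebra.adjoin B (s : Set K) := by rw [hadj]; trivial
    have hle : Algebra.adjoin B (s : Set K) ≤ integralClosure B K :=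
      Algebra.adjoin_le (fun z hz => hintB z hz)
    exact hle hx
  haveI : Algebra.FiniteType B K := ⟨⟨s, hadj⟩⟩
  exact (Algebra.IsIntegral.finite : Module.Finite B K)

end Groth.Agent.H5.FtPts
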