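import Mathlib.AlgebraicGeometry.Morphisms.Integral
import Mathlib.AlgebraicGeometry.Morphisms.Finite
import Mathlib.AlgebraicGeometry.Fiber

set_option autoImplicit false
universe u
open CategoryTheory CategoryTheory.Limits AlgebraicGeometry Opposite TopologicalSpace

namespace Groth.Agent.H5.FtPts

/-- a morphism from a one-point scheme to a scheme over an affine base, whose composite with the
structure morphism is integral, has closed range. -/
theorem isClosed_range_of_isIntegralHom_comp {Z Y B : Scheme.{u}} [Subsingleton Z] (h : Z ⟶ Y)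
    (g : Y ⟶ B) [IsAffine B] [IsIntegralHom (h ≫ g)] : IsClosed (Set.range h) := by
  rw [← closure_subset_iff_isClosed]
  intro y' hy'
  obtain ⟨U, hU, hy'U, -⟩ := exists_isAffineOpen_mem_and_subset (x := y') (U := (⊤ : Y.Opens))
    trivial
  -- the range of `h` lies in `U`
  have hrange : Set.range h ⊆ (U : Set Y) := by
    rintro _ ⟨z, rfl⟩
    by_contra hz
    have : y' ∈ closure (Set.range h) := hy'
    have hcl : closure (Set.range h) ⊆ (U : Set Y)ᶜ := by
      apply closure_minimal _ U.2.isClosed_compl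
      rintro _ ⟨z', rfl⟩
      rwa [Subsingleton.elim z' z]
    exact hcl this hy'U
  have hrange' : Set.range h ⊆ Set.range U.ι := by
    rwa [Scheme.Opens.range_ι]
  let h' : Z ⟶ U := IsOpenImmersion.lift U.ι h hrange'
  have hh' : h' ≫ U.ι = h := IsOpenImmersion.lift_fac _ _ _
  haveI : IsAffine (U : Scheme) := hU
  haveI : IsIntegralHom (h' ≫ (U.ι ≫ g)) := by
    rw [← Category.assoc, hh']; infer_instance
  haveI : IsIntegralHom h' := IsIntegralHom.of_comp h' (U.ι ≫ g)
  have hcl : IsClosed (Set.range h') := h'.isClosedMap.isClosed_range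
  have hy'mem : (⟨y', hy'U⟩ : U) ∈ closure (Set.range h') := by
    rw [U.ι.isEmbedding.closure_eq_preimage_closure_image, ← Set.range_comp]
    show U.ι ⟨y', hy'U⟩ ∈ closure (Set.range (U.ι ∘ h'))
    have : (U.ι ∘ h' : Z → Y) = h := by
      rw [← hh']; rfl
    rw [this]
    exact hy'
  rw [hcl.closure_eq] at hy'mem
  obtain ⟨z, hz⟩ := hy'mem
  refine ⟨z, ?_⟩
  rw [← hh']
  show U.ι (h' z) = y'
  rw [hz]
  rfl

end Groth.Agent.H5.FtPts
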