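import Groth.Agent.Lib.Helper5.FtPts.FtImage

set_option autoImplicit false
universe u
open CategoryTheory CategoryTheory.Limits AlgebraicGeometry Opposite TopologicalSpace

namespace Groth.Agent.H5.FtPts

lemma isIso_fromSpecResidueField_of_field (k : Type u) [Field k] (x : Spec (CommRingCat.of k)) :
    IsIso ((Spec (CommRingCat.of k)).fromSpecResidueField x) := by
  rw [← Scheme.Spec.map_residueFieldIso_inv_eq_fromSpecResidueField]
  haveI : IsIso (CommRingCat.ofHom (algebraMap (CommRingCat.of k) x.asIdeal.ResidueField)) := by
    have : CommRingCat.ofHom (algebraMap (CommRingCat.of k) x.asIdeal.ResidueField) =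
        (x.asIdeal.algEquivResidueFieldOfField.toRingEquiv.toCommRingCatIso).hom := rfl
    rw [this]
    infer_instance
  infer_instance

/-- **Stacks 01TA**. -/
theorem locallyOfFiniteType_from_field_iff (S : Scheme.{u}) (k : Type u) [Field k]
    (f : Spec (CommRingCat.of k) ⟶ S) :
    LocallyOfFiniteType f ↔
      ∃ U : S.Opens, IsAffineOpen U ∧ ∃ hu : f.base (IsLocalRing.closedPoint k) ∈ U,
        IsClosed ({⟨f.base (IsLocalRing.closedPoint k), hu⟩} : Set ↥U) ∧
          (f.residueFieldMap (IsLocalRing.closedPoint k)).hom.Finite := by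
  set pt : Spec (CommRingCat.of k) := IsLocalRing.closedPoint k with hpt
  haveI := isIso_fromSpecResidueField_of_field k pt
  have hsq : Spec.map (f.residueFieldMap pt) ≫ S.fromSpecResidueField (f pt) =
      (Spec (CommRingCat.of k)).fromSpecResidueField pt ≫ f :=
    Scheme.Hom.SpecMap_residueFieldMap_fromSpecResidueField f pt
  constructor
  · intro h
    obtain ⟨U, hU, hu, hcl⟩ := exists_affineOpen_isClosed_of_locallyOfFiniteType f
    refine ⟨U, hU, hu, hcl, ?_⟩
    haveI : LocallyOfFiniteType (Spec.map (f.residueFieldMap pt) ≫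
        S.fromSpecResidueField (f pt)) := by
      rw [hsq]; infer_instance
    haveI : LocallyOfFiniteType (Spec.map (f.residueFieldMap pt)) :=
      locallyOfFiniteType_of_comp _ (S.fromSpecResidueField (f pt))
    have hft : (f.residueFieldMap pt).hom.FiniteType :=
      (HasRingHomProperty.Spec_iff (P := @LocallyOfFiniteType)).mp inferInstance
    exact RingHom.finite_iff_finiteType_of_isJacobsonRing.mpr hft
  · rintro ⟨U, -, hu, hcl, hfin⟩
    haveI : LocallyOfFiniteType (S.fromSpecResidueField (f pt)) :=
      locallyOfFiniteType_fromSpecResidueField_of_isClosed U (f pt) hu hcl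
    haveI : IsFinite (Spec.map (f.residueFieldMap pt)) := (IsFinite.SpecMap_iff _).mpr hfin
    have h1 : LocallyOfFiniteType ((Spec (CommRingCat.of k)).fromSpecResidueField pt ≫ f) := by
      rw [← hsq]; infer_instance
    exact (MorphismProperty.cancel_left_of_respectsIso @LocallyOfFiniteType
      ((Spec (CommRingCat.of k)).fromSpecResidueField pt) f).mp h1

end Groth.Agent.H5.FtPts
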